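import Groth.Agent.ResProp.EF.K983.CochMap

/-!
# The killing lemma over a field of characteristic zero (S16912, G2b; helper983)

Over `k ⊇ ℚ` every element is "nat" and `T = k` does it: `kill_of_field`.
Also: `comodHom_tmulR` (`m ↦ m ⊗ x` is a morphism for invariant `x`), `trivMod`, `endTriv`, `killedByStep`.
-/

set_option autoImplicit false

universe u

open TensorProduct

noncomputable section

namespace Groth.Agent.ResProp.EF.K983

open Grp

section General

variable {k : Type u} [CommRing k] {E : Gp k}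

/-- `m ↦ m ⊗ x` is a morphism of modules if `x` is invariant -/
theorem comodHom_tmulR (M N : GMod E) (x : N.V)
    (hx : HopfRep.Comod.coact (k := k) (A := E.O) x = x ⊗ₜ[k] (1 : E.O)) :
    @Hoch.IsComodHom k _ E.O _ _ _ M.V _ _ M.co (M.tens N).V _ _ (M.tens N).co (tmulR M N x) := by
  refine LinearMap.ext fun m => ?_
  change (ComodTens.Comod.tensor M.co N.co).coact (m ⊗ₜ[k] x) =
    (tmulR M N x).rTensor E.O (HopfRep.Comod.coact (k := k) (A := E.O) m)
  rw [ComodTens.tensor_coact_tmul, hx]
  generalize (HopfRep.Comod.coact (k := k) (A := E.O) m : M.V ⊗[k] E.O) = w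
  induction w using TensorProduct.induction_on with
  | zero => simp
  | add a b ha hb => rw [TensorProduct.add_tmul, map_add, map_add, map_add, ha, hb]
  | tmul a b => simp [tmulR, AlgebraTensorModule.tensorTensorTensorComm_tmul]

/-- the one dimensional trivial module -/
abbrev trivMod (E : Gp k) : GMod E where
  V := k
  co := HopfRep.Comod.trivial k E.O k

/-- the trivial structure on `End k` -/
def endTriv (E : Gp k) : EndStr (trivMod E) where
  co := HopfRep.Comod.trivial k E.O (Module.End k k)
  ev := by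
    refine TensorProduct.ext' fun f x => ?_
    change (HopfRep.Comod.trivial k E.O k).coact (f x) =
      (TensorProduct.lift (LinearMap.id : Module.End k k →ₗ[k] Module.End k k)).rTensor E.O
        ((ComodTens.Comod.tensor (HopfRep.Comod.trivial k E.O (Module.End k k))
          (HopfRep.Comod.trivial k E.O k)).coact (f ⊗ₜ[k] x))
    rw [ComodTens.tensor_coact_tmul]
    change (f x) ⊗ₜ[k] (1 : E.O) =
      (TensorProduct.lift (LinearMap.id : Module.End k k →ₗ[k] Module.End k k)).rTensor E.O
        (TensorProduct.map LinearMap.id (LinearMap.mul' k E.O)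
          (AlgebraTensorModule.tensorTensorTensorComm k k k k (Module.End k k) E.O k E.O
            ((f ⊗ₜ[k] (1 : E.O)) ⊗ₜ[k] (x ⊗ₜ[k] (1 : E.O)))))
    rw [AlgebraTensorModule.tensorTensorTensorComm_tmul, TensorProduct.map_tmul, LinearMap.rTensor_tmul]
    simp

theorem isLat_triv [Nontrivial k] (E : Gp k) : IsLat (trivMod E) where
  free := inferInstanceAs (Module.Free k k)
  fin := inferInstanceAs (Module.Finite k k)
  nontriv := inferInstanceAs (Nontrivial k)

/-- the step with cocycle `κ` kills every class coming from `κ` -/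
theorem killedByStep (S : OneStep E) (M : GMod E) (f : S.V.V →ₗ[k] M.V) (hf : Hoch.IsComodHom E.O f) (c : M.C 2)
    (hc : IsCob M 1 (c - cmap S.V M f 2 S.z)) : IsCob (M.res S.ι) 1 (cres S.ι M 2 c) := by
  have h1 := IsCob.res hc S.ι
  have h2 : IsCob (M.res S.ι) 1 (cres S.ι M 2 (cmap S.V M f 2 S.z)) := by
    rw [← cmap_cres, ← S.hx]
    exact ⟨cmap (S.V.res S.ι) (M.res S.ι) f 1 S.x,
      cmap_d (S.V.res S.ι) (M.res S.ι) f (comodHom_res S.ι S.V M f hf) 1 S.x⟩
  have h3 := IsCob.add h1 h2
  rw [← map_add, sub_add_cancel] at h3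
  exact h3

end General

theorem isNat_of_field {k : Type u} [Field k] [CharZero k] {A : Type u} [CommRing A] [Algebra k A] (a : A) :
    IsNat a := by
  intro n
  have h := (IsUnit.mk0 ((n.factorial : ℕ) : k) (Nat.cast_ne_zero.2 n.factorial_ne_zero)).map (algebraMap k A)
  rw [map_natCast] at h
  exact h.dvd

/-- **the killing lemma over a field of characteristic zero** -/
theorem kill_of_field {k : Type u} [Field k] [CharZero k] (H : Gp k) (hL : ∀ E : Gp k, LiftClass2 E)
    (hS : ∀ E : Gp k, HasOneStep E) : Kill H := by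
  intro E ι _ M c hc
  obtain ⟨V, hV1, hV2, f, hf, κ, hκ, hcob⟩ := hL E M c hc
  obtain ⟨S, e, hz⟩ := hS E V hV1 hV2 κ hκ (fun f => isNat_of_field (k := k) _)
  subst e
  have hz' : S.z = κ := hz
  subst hz'
  have h1 := killedByStep S M f hf c hcob
  refine ⟨S, trivMod H, isLat_triv H, endTriv H, ?_⟩
  refine IsCob.map h1 _ (comodHom_tmulR _ _ _ ?_)
  change TensorProduct.map LinearMap.id ((S.ι.comp ι : H.O →ₐc[k] S.E'.O) : H.O →ₗ[k] S.E'.O)
    ((1 : Module.End k k) ⊗ₜ[k] (1 : H.O)) = _
  rw [TensorProduct.map_tmul]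
  congr 1
  exact map_one (S.ι.comp ι)

end Groth.Agent.ResProp.EF.K983
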