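import Groth.Agent.ResProp.EF.Grp
import Groth.Agent.HopfRep.K187.HochMap

/-!
# Cochain maps of `Grp.lean` commute with the differential (S16912, G2; helper983)

`cmap_d`, `cres_d`, `cmap_cres`, `comodHom_res`, and the bookkeeping for coboundaries.
-/

set_option autoImplicit false

universe u

open TensorProduct

noncomputable section

namespace Groth.Agent.ResProp.EF.K983

open Grp

variable {k : Type u} [CommRing k] {E E' E'' : Gp k}

/-- `cmap` is the map of `K187.HochMap`. -/
theorem cmap_eq (M N : GMod E) (f : M.V →ₗ[k] N.V) (n : ℕ) : cmap M N f n = K187.HochMap.map k E.O f n := by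
  induction n with
  | zero => rfl
  | succ n ih =>
    change (cmap M N f n).rTensor E.O = (K187.HochMap.map k E.O f n).rTensor E.O
    rw [ih]

/-- a morphism of modules induces a morphism of complexes -/
theorem cmap_d (M N : GMod E) (f : M.V →ₗ[k] N.V) (hf : Hoch.IsComodHom E.O f) (n : ℕ) (x : M.C n) :
    N.d n (cmap M N f n x) = cmap M N f (n + 1) (M.d n x) := by
  rw [cmap_eq, cmap_eq]
  exact K187.HochMap.d_map_apply k E.O hf n x

theorem cmap_comp (M N P : GMod E) (f : M.V →ₗ[k] N.V) (g : N.V →ₗ[k] P.V) (n : ℕ) (x : M.C n) :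
    cmap N P g n (cmap M N f n x) = cmap M P (g ∘ₗ f) n x := by
  rw [cmap_eq, cmap_eq, cmap_eq, K187.HochMap.map_comp]
  rfl

theorem cmap_id (M : GMod E) (n : ℕ) (x : M.C n) : cmap M M LinearMap.id n x = x := by
  rw [cmap_eq, K187.HochMap.map_id]
  rfl

/-- `tail` and homomorphisms of bialgebras -/
theorem tail_map {A B : Type u} [CommRing A] [Bialgebra k A] [CommRing B] [Bialgebra k B] (φ : A →ₐc[k] B)
    {M N : Type u} [AddCommGroup M] [Module k M] [AddCommGroup N] [Module k N] (g : M →ₗ[k] N) :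
    Hoch.tail k B N ∘ₗ TensorProduct.map g (φ : A →ₐ[k] B).toLinearMap =
      TensorProduct.map (TensorProduct.map g (φ : A →ₐ[k] B).toLinearMap) (φ : A →ₐ[k] B).toLinearMap ∘ₗ
        Hoch.tail k A M := by
  refine TensorProduct.ext' fun m a => ?_
  have h1 : ∀ w : A ⊗[k] A, (TensorProduct.map (TensorProduct.map g (φ : A →ₐ[k] B).toLinearMap)
      (φ : A →ₐ[k] B).toLinearMap) ((TensorProduct.assoc k M A A).symm (m ⊗ₜ[k] w)) =
      (TensorProduct.assoc k N B B).symm (g m ⊗ₜ[k]
        (TensorProduct.map (φ : A →ₐ[k] B).toLinearMap (φ : A →ₐ[k] B).toLinearMap w)) := by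
    intro w
    induction w using TensorProduct.induction_on with
    | zero => simp
    | add z₁ z₂ h₁ h₂ => simp only [map_add, TensorProduct.tmul_add, h₁, h₂]
    | tmul a b => simp
  have h2 : Coalgebra.comul (R := k) (φ a) =
      TensorProduct.map (φ : A →ₐ[k] B).toLinearMap (φ : A →ₐ[k] B).toLinearMap (Coalgebra.comul (R := k) a) :=
    (LinearMap.congr_fun (CoalgHomClass.map_comp_comul φ) a).symm
  rw [LinearMap.comp_apply, LinearMap.comp_apply, TensorProduct.map_tmul, Hoch.tail_tmul]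
  change (TensorProduct.assoc k N B B).symm (g m ⊗ₜ[k]
    (Coalgebra.comul (R := k) (φ a) - (φ a) ⊗ₜ 1 - 1 ⊗ₜ (φ a))) = _
  rw [Hoch.tail_tmul, h1, h2, map_sub, map_sub, TensorProduct.map_tmul, TensorProduct.map_tmul]
  simp

/-- restriction of groups induces a morphism of complexes -/
theorem cres_d (φ : E.O →ₐc[k] E'.O) (M : GMod E) (n : ℕ) (x : M.C n) :
    (M.res φ).d n (cres φ M n x) = cres φ M (n + 1) (M.d n x) := by
  have key : (M.res φ).d n ∘ₗ cres φ M n = cres φ M (n + 1) ∘ₗ M.d n := by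
    clear x
    induction n with
    | zero =>
      refine LinearMap.ext fun v => ?_
      change Hoch.d k E'.O (M.res φ).V 0 v = TensorProduct.map LinearMap.id (φ : E.O →ₐ[k] E'.O).toLinearMap
        (Hoch.d k E.O M.V 0 v)
      rw [Hoch.d_zero_apply, Hoch.d_zero_apply, map_sub, TensorProduct.map_tmul]
      have h1 : ((φ : E.O →ₐ[k] E'.O).toLinearMap : E.O →ₗ[k] E'.O) 1 = 1 := map_one φ
      rw [h1]
      rfl
    | succ n ih =>
      change (Hoch.d k E'.O (M.res φ).V (n + 1)) ∘ₗ
          TensorProduct.map (cres φ M n) (φ : E.O →ₐ[k] E'.O).toLinearMap =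
        TensorProduct.map (cres φ M (n + 1)) (φ : E.O →ₐ[k] E'.O).toLinearMap ∘ₗ Hoch.d k E.O M.V (n + 1)
      rw [Hoch.d_succ, Hoch.d_succ, LinearMap.add_comp, LinearMap.comp_add, LinearMap.smul_comp,
        LinearMap.comp_smul, tail_map]
      congr 1
      rw [LinearMap.rTensor, LinearMap.rTensor, ← TensorProduct.map_comp, ← TensorProduct.map_comp,
        LinearMap.comp_id, LinearMap.id_comp]
      exact congrArg (fun g => TensorProduct.map g (φ : E.O →ₐ[k] E'.O).toLinearMap) ih
  exact LinearMap.congr_fun key x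

/-- `cmap` and `cres` commute -/
theorem cmap_cres (φ : E.O →ₐc[k] E'.O) (M N : GMod E) (f : M.V →ₗ[k] N.V) (n : ℕ) (x : M.C n) :
    cmap (M.res φ) (N.res φ) f n (cres φ M n x) = cres φ N n (cmap M N f n x) := by
  have key : cmap (M.res φ) (N.res φ) f n ∘ₗ cres φ M n = cres φ N n ∘ₗ cmap M N f n := by
    clear x
    induction n with
    | zero => rfl
    | succ n ih =>
      change (cmap (M.res φ) (N.res φ) f n).rTensor E'.O ∘ₗ
          TensorProduct.map (cres φ M n) (φ : E.O →ₐ[k] E'.O).toLinearMap =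
        TensorProduct.map (cres φ N n) (φ : E.O →ₐ[k] E'.O).toLinearMap ∘ₗ (cmap M N f n).rTensor E.O
      rw [LinearMap.rTensor, LinearMap.rTensor, ← TensorProduct.map_comp, ← TensorProduct.map_comp,
        LinearMap.comp_id, LinearMap.id_comp, ih]
  exact LinearMap.congr_fun key x

/-- a morphism of modules stays one after restriction -/
theorem comodHom_res (φ : E.O →ₐc[k] E'.O) (M N : GMod E) (f : M.V →ₗ[k] N.V) (hf : Hoch.IsComodHom E.O f) :
    @Hoch.IsComodHom k _ E'.O _ _ _ (M.res φ).V _ _ (M.res φ).co (N.res φ).V _ _ (N.res φ).co f := by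
  refine LinearMap.ext fun v => ?_
  have h1 : HopfRep.Comod.coact (k := k) (A := E.O) (f v) =
        f.rTensor E.O (HopfRep.Comod.coact (k := k) (A := E.O) v) := LinearMap.congr_fun hf v
  change TensorProduct.map LinearMap.id (φ : E.O →ₗ[k] E'.O) (HopfRep.Comod.coact (k := k) (A := E.O) (f v)) =
    f.rTensor E'.O (TensorProduct.map LinearMap.id (φ : E.O →ₗ[k] E'.O)
      (HopfRep.Comod.coact (k := k) (A := E.O) v))
  rw [h1]
  change (TensorProduct.map LinearMap.id (φ : E.O →ₗ[k] E'.O) ∘ₗ f.rTensor E.O) _ =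
    (f.rTensor E'.O ∘ₗ TensorProduct.map LinearMap.id (φ : E.O →ₗ[k] E'.O)) _
  congr 1
  rw [LinearMap.rTensor, LinearMap.rTensor, ← TensorProduct.map_comp, ← TensorProduct.map_comp,
        LinearMap.comp_id, LinearMap.id_comp, LinearMap.comp_id, LinearMap.id_comp]

/-- the image of a coboundary is a coboundary -/
theorem IsCob.map {M N : GMod E} {n : ℕ} {c : M.C (n + 1)} (h : IsCob M n c) (f : M.V →ₗ[k] N.V)
    (hf : Hoch.IsComodHom E.O f) : IsCob N n (cmap M N f (n + 1) c) := by
  obtain ⟨b, rfl⟩ := h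
  exact ⟨cmap M N f n b, cmap_d M N f hf n b⟩

theorem IsCob.res {M : GMod E} {n : ℕ} {c : M.C (n + 1)} (h : IsCob M n c) (φ : E.O →ₐc[k] E'.O) :
    IsCob (M.res φ) n (cres φ M (n + 1) c) := by
  obtain ⟨b, rfl⟩ := h
  exact ⟨cres φ M n b, cres_d φ M n b⟩

theorem IsCob.add {M : GMod E} {n : ℕ} {c c' : M.C (n + 1)} (h : IsCob M n c) (h' : IsCob M n c') :
    IsCob M n (c + c') := by
  obtain ⟨b, rfl⟩ := h
  obtain ⟨b', rfl⟩ := h'
  exact ⟨b + b', map_add _ _ _⟩

end Groth.Agent.ResProp.EF.K983
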